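import Groth.Agent.StalkHomLib.StalkExt
import Groth.Agent.CAlgBasics.ReflexiveDepth
import Groth.Agent.ModTensor.Sheaf
import Groth.Agent.PullbackMod.OpenLocus
import Groth.Prelude.Def_DCoh4

/-!
# Stalks, depths and support dimensions of sheaves of homomorphisms
-/

set_option autoImplicit false
set_option linter.style.haveILetI false

universe u

open CategoryTheory Limits AlgebraicGeometry

noncomputable section

namespace Groth.Agent.HomDepthLib

variable {X : Scheme.{u}} [IsLocallyNoetherian X] (F G : X.Modules)

theorem stalkLin_bijective {M N : X.Modules} (e : M ≅ N) (x : X) :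
    Function.Bijective (PullbackMod.stalkLin e.hom x) :=
  ConcreteCategory.bijective_of_isIso
    (((Scheme.Modules.toPresheaf X) ⋙ TopCat.Presheaf.stalkFunctor Ab.{u} x).mapIso e).hom

theorem nonempty_stalk_sheafHom (hF : Coh.IsCoh F) [DCoh.HasSheafHom F] (x : X) :
    Nonempty (((DCoh.sheafHom F).obj G).presheaf.stalk x ≃ₗ[X.presheaf.stalk x]
      (F.presheaf.stalk x →ₗ[X.presheaf.stalk x] G.presheaf.stalk x)) := by
  haveI : ModSite.HasSheafHom (O := X.sheaf) F := ModTensor.hasSheafHom (O := X.sheaf) F
  let e : ModSite.sheafHom (O := X.sheaf) F ≅ DCoh.sheafHom F :=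
    Adjunction.rightAdjointUniq (ModSite.sheafHomAdj (O := X.sheaf) F)
      ((DCoh.sheafHomAdj F).ofNatIsoLeft (ModTensor.tensorSymm X.sheaf F).symm)
  exact ⟨(LinearEquiv.ofBijective _ (stalkLin_bijective (e.app G) x)).symm.trans
    (LinearEquiv.ofBijective _ (StalkHomLib.theta_bijective F x hF G))⟩

theorem supportDim_linearMap_le {R : Type u} [CommRing R] [IsNoetherianRing R] (M N : Type u) [AddCommGroup M] [Module R M]
    [Module.Finite R M] [AddCommGroup N] [Module R N] [Module.Finite R N] :
    Module.supportDim R (M →ₗ[R] N) ≤ Module.supportDim R N := by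
  rw [Module.supportDim_eq_ringKrullDim_quotient_annihilator,
    Module.supportDim_eq_ringKrullDim_quotient_annihilator]
  refine ringKrullDim_le_of_surjective (Ideal.Quotient.factor (S := Module.annihilator R N) ?_)
    (Ideal.Quotient.factor_surjective _)
  intro a ha
  rw [Module.mem_annihilator] at ha ⊢
  exact fun φ => LinearMap.ext fun x => ha (φ x)

end Groth.Agent.HomDepthLib
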